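import Groth.Agent.S1552
import Groth.Agent.S16030
import Groth.Agent.AmpleEmb.FiniteSet
import Groth.Prelude.Def_Fitting
import Mathlib.AlgebraicGeometry.QuasiAffine

/-! Norms transport ampleness and quasi-affineness down. -/

set_option autoImplicit false
set_option linter.style.haveILetI false
set_option backward.isDefEq.respectTransparency false

universe u

open CategoryTheory CategoryTheory.Limits AlgebraicGeometry TopologicalSpace Opposite
open Groth.Agent.ParaFLib Groth.Agent.AmpleLib Groth.Agent.DCohLib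

namespace Groth.Agent.NormHomLib

variable {X Y : Scheme.{u}} {π : X ⟶ Y} {d : ℕ} (N : Nrm.NormOfDegree π d)

include N in
theorem surjective_of_norm [IsFinite π] : Surjective π := by
  refine ⟨fun y => by_contra fun hy => ?_⟩
  let U : Y.Opens := ⟨(Set.range π)ᶜ, π.isClosedMap.isClosed_range.isOpen_compl⟩
  have hyU : y ∈ U := fun h => hy h
  have h01 : (π.app U 0 : Γ(X, π ⁻¹ᵁ U)) = 1 :=
    TopCat.Presheaf.section_ext X.sheaf _ _ _ fun z hz => (hz ⟨z, rfl⟩).elim
  have h := N.norm_app U 0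
  rw [h01, map_one, zero_pow (Nat.one_le_iff_ne_zero.1 N.one_le)] at h
  have := congrArg (Y.presheaf.germ U y hyU) h
  rw [map_one, map_zero] at this
  exact one_ne_zero this

theorem norm_res' {U V : Y.Opens} (h : V ≤ U) (s : Γ(X, π ⁻¹ᵁ U)) :
    Y.presheaf.map (homOfLE h).op (N.norm U s) =
      N.norm V (X.presheaf.map (homOfLE (π.preimage_mono h)).op s) :=
  N.norm_res (homOfLE h) s

include N in
/-- A function invertible over a point has norm invertible at the point. -/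
theorem mem_basicOpen_norm [IsFinite π] {U : Y.Opens} (c : Γ(X, π ⁻¹ᵁ U)) {y : Y} (hy : y ∈ U)
    (h : ∀ z, π z = y → z ∈ X.basicOpen c) : y ∈ Y.basicOpen (N.norm U c) := by
  have hC : IsClosed (π '' ((X.basicOpen c : Set X)ᶜ)) := π.isClosedMap _ (X.basicOpen c).2.isClosed_compl
  let V : Y.Opens := U ⊓ ⟨(π '' ((X.basicOpen c : Set X)ᶜ))ᶜ, hC.isOpen_compl⟩
  have hyV : y ∈ V := ⟨hy, fun ⟨z, hz, hzy⟩ => hz (h z hzy)⟩
  have hVU : V ≤ U := inf_le_left
  have hu : IsUnit (X.presheaf.map (homOfLE (π.preimage_mono hVU)).op c) :=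
    RingedSpace.isUnit_of_isUnit_germ _ _ _ fun z hz => by
      have hzc : z ∈ X.basicOpen c := by_contra fun hne => hz.2 ⟨z, hne, rfl⟩
      erw [TopCat.Presheaf.germ_res_apply]
      exact (X.mem_basicOpen c z (X.basicOpen_le c hzc)).1 hzc
  have hu' := hu.map (N.norm V)
  rw [← norm_res' N hVU c] at hu'
  have := (Y.mem_basicOpen _ y hyV).2 (hu'.map (Y.presheaf.germ V y hyV).hom)
  rw [Scheme.basicOpen_res] at this
  exact this.2

include N in
theorem mem_basicOpen_of_norm {U : Y.Opens} (c : Γ(X, π ⁻¹ᵁ U)) {z : X} (hz : π z ∈ Y.basicOpen (N.norm U c)) :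
    z ∈ X.basicOpen c := by
  have hzU : π z ∈ U := Y.basicOpen_le _ hz
  by_contra hne
  exact N.norm_mem U c z hzU (fun hu => hne ((X.mem_basicOpen c z hzU).2 hu)) ((Y.mem_basicOpen _ _ hzU).1 hz)

include N in
/-- Quasi-affineness descends along a finite morphism with a norm. -/
theorem isQuasiAffine_of_norm [IsFinite π] (hX : X.IsQuasiAffine) : Y.IsQuasiAffine := by
  haveI := surjective_of_norm N
  haveI := hX
  haveI : CompactSpace Y := ⟨by rw [← π.surjective.range_eq]; exact isCompact_range π.continuous⟩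
  refine Scheme.IsQuasiAffine.of_forall_exists_mem_basicOpen Y fun y => ?_
  obtain ⟨_, ⟨V : Y.Opens, hV, rfl⟩, hyV, -⟩ :=
    Y.isBasis_affineOpens.exists_subset_of_mem_open (Set.mem_univ y) isOpen_univ
  let e := X.toSpecΓ
  obtain ⟨a, ha, haU⟩ := S16030.result Γ(X, ⊤) (e '' (π ⁻¹' {y})) ((π.finite_preimage_singleton y).image e)
    (e ''ᵁ (π ⁻¹ᵁ V)) (Set.image_mono fun z hz => (show π z ∈ V from (show π z = y from hz).symm ▸ hyV))
  have hle : X.basicOpen a ≤ π ⁻¹ᵁ V := by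
    rw [← Scheme.toSpecΓ_preimage_basicOpen]
    intro z hz
    obtain ⟨w, hw, he⟩ := haU hz
    exact e.isOpenEmbedding.injective he ▸ hw
  have hfib : ∀ z, π z = y → z ∈ X.basicOpen a := fun z hz => by
    rw [← Scheme.toSpecΓ_preimage_basicOpen]
    exact ha ⟨z, hz, rfl⟩
  let b := N.norm ⊤ (show Γ(X, π ⁻¹ᵁ ⊤) from a)
  have hbV : Y.basicOpen b ≤ V := fun w hw => by
    obtain ⟨z, rfl⟩ := π.surjective w
    exact hle (mem_basicOpen_of_norm N (U := ⊤) (show Γ(X, π ⁻¹ᵁ ⊤) from a) hw)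
  refine ⟨b, ?_, mem_basicOpen_norm N (U := ⊤) (show Γ(X, π ⁻¹ᵁ ⊤) from a) trivial hfib⟩
  have : Y.basicOpen b = Y.basicOpen (Y.presheaf.map (homOfLE (le_top : V ≤ ⊤)).op b) := by
    rw [Scheme.basicOpen_res, inf_eq_right.2 hbV]
  rw [this]
  exact hV.basicOpen _

include N in
/-- Ampleness descends along a finite morphism with a norm. -/
theorem exists_isAmple_of_norm [IsFinite π] {L : X.Modules} (hL : CohB1.IsAmple L) :
    ∃ M : Y.Modules, CohB1.IsAmple M := by
  classical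
  haveI := surjective_of_norm N
  haveI : CompactSpace X := hL.2.1
  haveI : CompactSpace Y := ⟨by rw [← π.surjective.range_eq]; exact isCompact_range π.continuous⟩
  choose O s hyO hs using S1552.exists_frame π L hL.1
  have hu : ∀ a b : Y, ∃ u : (Γ(X, π ⁻¹ᵁ (O a ⊓ O b)))ˣ,
      L.presheaf.map (homOfLE (π.preimage_mono (inf_le_left : O a ⊓ O b ≤ O a))).op (s a) =
        (u : Γ(X, π ⁻¹ᵁ (O a ⊓ O b))) • L.presheaf.map (homOfLE (π.preimage_mono (inf_le_right : O a ⊓ O b ≤ O b))).op (s b) := by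
    intro a b
    obtain ⟨c, hc, hc'⟩ := ((hs a).res (π.preimage_mono (inf_le_left : O a ⊓ O b ≤ O a))).exists_unit
      ((hs b).res (π.preimage_mono (inf_le_right : O a ⊓ O b ≤ O b)))
    exact ⟨hc.unit, hc'.symm⟩
  choose u hu using hu
  let η : ∀ a b : Y, (Γ(Y, O a ⊓ O b))ˣ := fun a b => Units.map (N.norm (O a ⊓ O b)) (u a b)
  have hres : ∀ a b (A : Y.Opens) (hA : A ≤ O a ⊓ O b),
      L.presheaf.map (homOfLE (π.preimage_mono (hA.trans inf_le_left))).op (s a) =
        X.presheaf.map (homOfLE (π.preimage_mono hA)).op (u a b : Γ(X, π ⁻¹ᵁ (O a ⊓ O b))) •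
          L.presheaf.map (homOfLE (π.preimage_mono (hA.trans inf_le_right))).op (s b) := fun a b A hA => by
    have := congrArg (L.presheaf.map (homOfLE (π.preimage_mono hA)).op) (hu a b)
    rwa [L.map_smul, ParaFLib.res_res, ParaFLib.res_res] at this
  have hcoc : IsCocycle O η := by
    intro a b c
    simp only [η, Units.coe_map]
    rw [norm_res' N, norm_res' N, norm_res' N, ← map_mul]
    refine congrArg _ (((hs c).res (π.preimage_mono inf_le_right)) _ le_rfl |>.1 ?_)
    show _ • _ = _ • _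
    simp only [ParaFLib.res_res]
    have e1 := hres a c (O a ⊓ O b ⊓ O c) (inf_le_inf_right (O c) inf_le_left)
    have e2 := hres a b (O a ⊓ O b ⊓ O c) inf_le_left
    have e3 := hres b c (O a ⊓ O b ⊓ O c) (inf_le_inf_right (O c) inf_le_right)
    exact e1.symm.trans (e2.trans ((congrArg _ e3).trans (smul_smul _ _ _)))
  have hO : iSup O = ⊤ := top_le_iff.1 fun y _ => Opens.mem_iSup.2 ⟨y, hyO y⟩
  obtain ⟨M, t, hM, ht, htt⟩ := exists_invertible_of_cocycle O η hO hcoc
  refine ⟨M, hM, inferInstance, fun y => ?_⟩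
  obtain ⟨_, ⟨V : Y.Opens, hV, rfl⟩, hyV, -⟩ :=
    Y.isBasis_affineOpens.exists_subset_of_mem_open (Set.mem_univ y) isOpen_univ
  obtain ⟨n, σ, hfib, hσV, -⟩ := AmpleEmb.exists_genLocus_finite hL (π.finite_preimage_singleton y) (U := π ⁻¹ᵁ V)
    (fun z hz => (show π z ∈ V from (show π z = y from hz).symm ▸ hyV))
  have hcoef : ∀ a, ∃ c : Γ(X, π ⁻¹ᵁ O a), c • powLoc (s a) (n + 1) = resT (sec σ) (π ⁻¹ᵁ O a) := fun a => by
    obtain ⟨c, hc⟩ := ((gen_powLoc (hs a) (n + 1)) _ le_rfl).2 (resT (sec σ) (π ⁻¹ᵁ O a))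
    simp only [ParaFLib.res_self] at hc
    exact ⟨c, hc⟩
  choose c hc using hcoef
  let F : TopCat.Sheaf Ab.{u} Y.carrier := ⟨(CohB1.tensorPow M (n + 1)).presheaf, (CohB1.tensorPow M (n + 1)).isSheaf⟩
  obtain ⟨τ, hτ, -⟩ := F.existsUnique_gluing' O ⊤ (fun a => homOfLE le_top) hO.ge
    (fun a => N.norm (O a) (c a) • powLoc (t a) (n + 1)) (fun a b => by
      show (CohB1.tensorPow M (n + 1)).presheaf.map (homOfLE (inf_le_left : O a ⊓ O b ≤ O a)).op _ =
        (CohB1.tensorPow M (n + 1)).presheaf.map (homOfLE (inf_le_right : O a ⊓ O b ≤ O b)).op _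
      rw [Scheme.Modules.map_smul, Scheme.Modules.map_smul, powLoc_res, powLoc_res, htt a b, powLoc_smul, smul_smul]
      refine congrArg (· • powLoc (M.presheaf.map (homOfLE inf_le_right).op (t b)) (n + 1)) ?_
      rw [norm_res' N, norm_res' N]
      simp only [η, Units.coe_map]
      rw [← map_pow, ← map_mul]
      refine congrArg _ (((gen_powLoc ((hs b).res (π.preimage_mono (inf_le_right : O a ⊓ O b ≤ O b))) (n + 1)) _ le_rfl).1 ?_)
      show _ • _ = _ • _
      simp only [ParaFLib.res_self]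
      have e1 := congrArg ((CohB1.tensorPow L (n + 1)).presheaf.map
        (homOfLE (π.preimage_mono (inf_le_left : O a ⊓ O b ≤ O a))).op) (hc a)
      have e2 := congrArg ((CohB1.tensorPow L (n + 1)).presheaf.map
        (homOfLE (π.preimage_mono (inf_le_right : O a ⊓ O b ≤ O b))).op) (hc b)
      rw [Scheme.Modules.map_smul, powLoc_res, resT, ParaFLib.res_res] at e1 e2
      rw [hu a b, powLoc_smul, smul_smul] at e1
      exact e1.trans e2.symm)
  have hloc : ∀ a, CohB1.genLocus _ (secHom (CohB1.tensorPow M (n + 1)) τ) ⊓ O a = Y.basicOpen (N.norm (O a) (c a)) :=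
    fun a => genLocus_inf_eq_basicOpen _ (gen_powLoc (ht a) (n + 1)) (by rw [sec_secHom]; exact (hτ a).symm)
  have hσ : ∀ a, CohB1.genLocus _ σ ⊓ π ⁻¹ᵁ O a = X.basicOpen (c a) :=
    fun a => genLocus_inf_eq_basicOpen _ (gen_powLoc (hs a) (n + 1)) (hc a)
  refine ⟨n, secHom _ τ, ((hloc y).ge (mem_basicOpen_norm N (c y) (hyO y) fun z hz =>
    (hσ y).le ⟨hfib hz, (show π z ∈ O y from hz.symm ▸ hyO y)⟩)).1, ?_⟩
  have hle : CohB1.genLocus _ (secHom (CohB1.tensorPow M (n + 1)) τ) ≤ V := fun w hw => by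
    obtain ⟨z, rfl⟩ := π.surjective w
    exact hσV ((hσ (π z)).ge (mem_basicOpen_of_norm N (c (π z)) ((hloc (π z)).le ⟨hw, hyO _⟩))).1
  have := isAffineOpen_inf_genLocus (isInvertible_tensorPow hM (n + 1)) (secHom _ τ) hV
  rwa [inf_eq_left.2 hle] at this

end Groth.Agent.NormHomLib
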