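import Groth.Agent.NormalSch.Basic
import Groth.Prelude.Def_Fitting
import Mathlib.RingTheory.Norm.Transitivity
import Mathlib.FieldTheory.IsAlgClosed.AlgebraicClosure
import Mathlib.AlgebraicGeometry.Morphisms.Finite
import Mathlib.FieldTheory.Minpoly.IsIntegrallyClosed

/-! A finite surjection of integral schemes onto a normal one carries a norm. -/

set_option autoImplicit false
set_option linter.style.haveILetI false
set_option backward.isDefEq.respectTransparency false

universe u

open CategoryTheory CategoryTheory.Limits AlgebraicGeometry TopologicalSpace Opposite Polynomial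

noncomputable section

namespace Groth.Agent.NormHomLib

variable {X Y : Scheme.{u}} [IsIntegral X] [IsIntegral Y] (g : X ⟶ Y) [IsFinite g] [Surjective g]

theorem map_genericPoint : g (genericPoint X) = genericPoint Y := by
  have h := (genericPoint_spec X).image g.continuous
  rw [Set.image_univ, g.surjective.range_eq, closure_univ] at h
  exact h.eq (genericPoint_spec Y)

/-- The map of function fields. -/
def ffMap : Y.functionField ⟶ X.functionField :=
  Y.presheaf.stalkSpecializes (Inseparable.of_eq (map_genericPoint g)).specializes ≫ g.stalkMap (genericPoint X)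

theorem gen_preimage {U : Y.Opens} (hU : genericPoint Y ∈ U) : genericPoint X ∈ g ⁻¹ᵁ U :=
  show g (genericPoint X) ∈ U from (map_genericPoint g).symm ▸ hU

theorem ffMap_germ {U : Y.Opens} (hU : genericPoint Y ∈ U) (u : Γ(Y, U)) :
    ffMap g (Y.presheaf.germ U _ hU u) = X.presheaf.germ (g ⁻¹ᵁ U) _ (gen_preimage g hU) (g.app U u) := by
  rw [ffMap, CommRingCat.comp_apply]
  erw [Y.presheaf.germ_stalkSpecializes_apply hU (Inseparable.of_eq (map_genericPoint g)).specializes u]
  exact Scheme.Hom.germ_stalkMap_apply g U (genericPoint X) (gen_preimage g hU) u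

/-- The algebra of function fields. -/
abbrev ffAlg : Algebra Y.functionField X.functionField := (ffMap g).hom.toAlgebra

theorem finite_functionField :
    letI := ffAlg g
    FiniteDimensional Y.functionField X.functionField := by
  letI := ffAlg g
  obtain ⟨_, ⟨W : Y.Opens, hW, rfl⟩, hηW, -⟩ :=
    Y.isBasis_affineOpens.exists_subset_of_mem_open (Set.mem_univ (genericPoint Y)) isOpen_univ
  haveI : Nonempty W := ⟨⟨_, hηW⟩⟩
  haveI : Nonempty (g ⁻¹ᵁ W : X.Opens) := ⟨⟨_, gen_preimage g hηW⟩⟩
  haveI := functionField_isFractionRing_of_isAffineOpen X (g ⁻¹ᵁ W) (hW.preimage g)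
  letI : Algebra Γ(Y, W) Γ(X, g ⁻¹ᵁ W) := (g.app W).hom.toAlgebra
  haveI hfin : Module.Finite Γ(Y, W) Γ(X, g ⁻¹ᵁ W) := g.finite_app W hW
  letI : Algebra Γ(Y, W) X.functionField :=
    ((algebraMap Γ(X, g ⁻¹ᵁ W) X.functionField).comp (g.app W).hom).toAlgebra
  haveI : IsScalarTower Γ(Y, W) Γ(X, g ⁻¹ᵁ W) X.functionField := .of_algebraMap_eq fun _ => rfl
  haveI : IsScalarTower Γ(Y, W) Y.functionField X.functionField := .of_algebraMap_eq fun u => (ffMap_germ g hηW u).symm
  classical
  obtain ⟨S, hS⟩ := hfin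
  let B := Algebra.adjoin Y.functionField ((S.image (algebraMap Γ(X, g ⁻¹ᵁ W) X.functionField) : Finset _) : Set X.functionField)
  have hmem : ∀ b : Γ(X, g ⁻¹ᵁ W), algebraMap Γ(X, g ⁻¹ᵁ W) X.functionField b ∈ B := fun b => by
    have hb : b ∈ Submodule.span Γ(Y, W) (S : Set Γ(X, g ⁻¹ᵁ W)) := hS ▸ Submodule.mem_top
    induction hb using Submodule.span_induction with
    | mem x hx => exact Algebra.subset_adjoin (Finset.mem_coe.2 (Finset.mem_image_of_mem _ hx))
    | zero => rw [map_zero]; exact B.zero_mem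
    | add x y _ _ hx hy => rw [map_add]; exact B.add_mem hx hy
    | smul c x _ hx =>
      rw [Algebra.smul_def, map_mul, ← IsScalarTower.algebraMap_apply,
        IsScalarTower.algebraMap_apply Γ(Y, W) Y.functionField X.functionField]
      exact B.mul_mem (B.algebraMap_mem _) hx
  have hint : ∀ z ∈ ((S.image (algebraMap Γ(X, g ⁻¹ᵁ W) X.functionField) : Finset _) : Set X.functionField),
      IsIntegral Y.functionField z := fun z hz => by
    obtain ⟨b, -, rfl⟩ := Finset.mem_image.1 hz
    haveI : Module.Finite Γ(Y, W) Γ(X, g ⁻¹ᵁ W) := g.finite_app W hW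
    exact (IsIntegral.of_finite Γ(Y, W) b).algebraMap.tower_top
  haveI : Module.Finite Y.functionField B :=
    Module.Finite.iff_fg.2 (fg_adjoin_of_finite (Finset.finite_toSet _) hint)
  haveI : IsDomain B := inferInstance
  have hB : IsField B := isField_of_isIntegral_of_isField' (Field.toIsField Y.functionField)
  have htop : B = ⊤ := eq_top_iff.2 fun z _ => by
    obtain ⟨a, b, hb, rfl⟩ := IsFractionRing.div_surjective (A := Γ(X, g ⁻¹ᵁ W)) z
    have hb0 : (⟨_, hmem b⟩ : B) ≠ 0 := fun h => nonZeroDivisors.ne_zero hb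
      (IsFractionRing.injective Γ(X, g ⁻¹ᵁ W) X.functionField (by rw [map_zero]; exact congrArg Subtype.val h))
    obtain ⟨c, hc⟩ := hB.mul_inv_cancel hb0
    rw [div_eq_mul_inv]
    refine B.mul_mem (hmem a) ?_
    rw [show (algebraMap Γ(X, g ⁻¹ᵁ W) X.functionField b)⁻¹ = (c : X.functionField) from
      inv_eq_of_mul_eq_one_right (congrArg Subtype.val hc)]
    exact c.2
  exact Module.Finite.equiv ((Subalgebra.equivOfEq _ _ htop).trans
    (Subalgebra.topEquiv (R := Y.functionField) (A := X.functionField))).toLinearEquiv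

/-- The norm of a function, as an element of the function field below. -/
def ffNorm {U : Y.Opens} (hU : genericPoint Y ∈ U) (a : Γ(X, g ⁻¹ᵁ U)) : Y.functionField :=
  letI := ffAlg g
  Algebra.norm Y.functionField (X.presheaf.germ (g ⁻¹ᵁ U) _ (gen_preimage g hU) a)

theorem ffNorm_res {U V : Y.Opens} (i : V ≤ U) (hV : genericPoint Y ∈ V) (a : Γ(X, g ⁻¹ᵁ U)) :
    ffNorm g hV (X.presheaf.map (homOfLE (g.preimage_mono i)).op a) = ffNorm g (i hV) a := by
  unfold ffNorm
  rw [TopCat.Presheaf.germ_res_apply]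

/-- A finite surjection of integral schemes onto a normal one has a norm. -/
theorem hasNorm_of_normal (hY : Pi1.IsNormalScheme Y) : ∃ d, Nrm.HasNorm g d := by
  classical
  letI := ffAlg g
  haveI := finite_functionField g
  have hgen : ∀ (U : Y.Opens) [Nonempty U], genericPoint Y ∈ U := fun U _ => NormalSch.genericPoint_mem U
  -- affine pieces: integrality
  have hpiece : ∀ (W : Y.Opens) (hW : IsAffineOpen W) (hη : genericPoint Y ∈ W) (a : Γ(X, g ⁻¹ᵁ W)),
      ∃ P : Γ(Y, W)[X], P.eval₂ (g.app W).hom a = 0 ∧ ∃ n m : ℕ, 0 < m ∧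
        ffNorm g hη a = Y.presheaf.germ W _ hη (((-1) ^ n * P.coeff 0) ^ m) := by
    intro W hW hη a
    haveI : Nonempty W := ⟨⟨_, hη⟩⟩
    haveI := functionField_isFractionRing_of_isAffineOpen Y W hW
    haveI : IsIntegrallyClosed Γ(Y, W) := NormalSch.isIntegrallyClosed_section hY W
    haveI : Nonempty (g ⁻¹ᵁ W : X.Opens) := ⟨⟨_, gen_preimage g hη⟩⟩
    haveI := functionField_isFractionRing_of_isAffineOpen X (g ⁻¹ᵁ W) (hW.preimage g)
    letI : Algebra Γ(Y, W) Γ(X, g ⁻¹ᵁ W) := (g.app W).hom.toAlgebra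
    haveI : Module.Finite Γ(Y, W) Γ(X, g ⁻¹ᵁ W) := g.finite_app W hW
    letI : Algebra Γ(Y, W) X.functionField :=
      ((algebraMap Γ(X, g ⁻¹ᵁ W) X.functionField).comp (g.app W).hom).toAlgebra
    haveI : IsScalarTower Γ(Y, W) Γ(X, g ⁻¹ᵁ W) X.functionField := .of_algebraMap_eq fun _ => rfl
    haveI : IsScalarTower Γ(Y, W) Y.functionField X.functionField := .of_algebraMap_eq fun u => (ffMap_germ g hη u).symm
    let α : X.functionField := algebraMap Γ(X, g ⁻¹ᵁ W) X.functionField a
    have hα : IsIntegral Γ(Y, W) α := (IsIntegral.of_finite Γ(Y, W) a).algebraMap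
    have hα' : IsIntegral Y.functionField α := hα.tower_top
    refine ⟨minpoly Γ(Y, W) α, ?_, (minpoly Y.functionField α).natDegree,
      Module.finrank (IntermediateField.adjoin Y.functionField {α}) X.functionField, Module.finrank_pos, ?_⟩
    · refine (IsFractionRing.injective Γ(X, g ⁻¹ᵁ W) X.functionField) ?_
      rw [map_zero, show (minpoly Γ(Y, W) α).eval₂ (g.app W).hom a = aeval a (minpoly Γ(Y, W) α) from rfl,
        ← aeval_algebraMap_apply]
      exact minpoly.aeval _ _
    · show Algebra.norm Y.functionField α = _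
      rw [Algebra.norm_eq_norm_adjoin Y.functionField α, ← IntermediateField.adjoin.powerBasis_gen hα',
        Algebra.PowerBasis.norm_gen_eq_coeff_zero_minpoly, IntermediateField.adjoin.powerBasis_gen,
        IntermediateField.minpoly_gen, minpoly.isIntegrallyClosed_eq_field_fractions' Y.functionField hα, coeff_map,
        IntermediateField.adjoin.powerBasis_dim, minpoly.isIntegrallyClosed_eq_field_fractions' Y.functionField hα]
      simp only [map_pow, map_mul, map_neg, map_one]
      rfl
  have hN : ∀ (U : Y.Opens) (a : Γ(X, g ⁻¹ᵁ U)), ∃ c : Γ(Y, U), ∀ hη : genericPoint Y ∈ U,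
      Y.presheaf.germ U _ hη c = ffNorm g hη a := by
    intro U a
    by_cases hη : genericPoint Y ∈ U
    · haveI : Nonempty U := ⟨⟨_, hη⟩⟩
      obtain ⟨s, hs⟩ := NormalSch.exists_section U (ffNorm g hη a) fun y hy => by
        obtain ⟨_, ⟨W : Y.Opens, hW, rfl⟩, hyW, hWU⟩ := Y.isBasis_affineOpens.exists_subset_of_mem_open hy U.2
        haveI : Nonempty W := ⟨⟨y, hyW⟩⟩
        obtain ⟨P, -, n, m, -, he⟩ := hpiece W hW (hgen W)
          (X.presheaf.map (homOfLE (g.preimage_mono (show W ≤ U from hWU))).op a)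
        refine ⟨Y.presheaf.germ W y hyW (((-1) ^ n * P.coeff 0) ^ m), ?_⟩
        rw [Scheme.algebraMap_germ_eq_germToFunctionField (hx := hyW)]
        exact he.symm.trans (ffNorm_res g hWU (hgen W) a)
      exact ⟨s, fun _ => hs⟩
    · exact ⟨0, fun h => absurd h hη⟩
  choose N hN using hN
  have hext : ∀ (U : Y.Opens) (c c' : Γ(Y, U)),
      (∀ hη : genericPoint Y ∈ U, Y.presheaf.germ U _ hη c = Y.presheaf.germ U _ hη c') → c = c' := by
    intro U c c' h
    rcases isEmpty_or_nonempty U with he | hne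
    · exact TopCat.Presheaf.section_ext Y.sheaf U _ _ fun y hy => (he.false ⟨y, hy⟩).elim
    · exact Y.germToFunctionField_injective U (h (hgen U))
  refine ⟨Module.finrank Y.functionField X.functionField, ⟨{
    one_le := Module.finrank_pos
    norm := fun U =>
      { toFun := N U
        map_one' := hext U _ _ fun hη => by
          rw [hN, ffNorm, map_one, map_one, map_one]
        map_mul' := fun a b => hext U _ _ fun hη => by
          rw [map_mul, hN, hN, hN, ffNorm, map_mul, map_mul]
          rfl }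
    norm_res := fun {U V} i s => hext V _ _ fun hη => by
      show Y.presheaf.germ V _ hη (Y.presheaf.map i.op (N U s)) = Y.presheaf.germ V _ hη (N V _)
      rw [TopCat.Presheaf.germ_res_apply, hN U s (i.le hη), hN V _ hη]
      exact (ffNorm_res g i.le hη s).symm
    norm_app := fun U u => hext U _ _ fun hη => by
      show Y.presheaf.germ U _ hη (N U (g.app U u)) = _
      rw [hN, ffNorm, ← ffMap_germ g hη u, map_pow]
      exact Algebra.norm_algebraMap _
    norm_mem := fun U s x hx hs => ?_ }⟩⟩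
  obtain ⟨_, ⟨W : Y.Opens, hW, rfl⟩, hxW, hWU⟩ := Y.isBasis_affineOpens.exists_subset_of_mem_open hx U.2
  have hWU' : W ≤ U := hWU
  haveI : Nonempty W := ⟨⟨_, hxW⟩⟩
  obtain ⟨P, hP, n, m, hm, he⟩ := hpiece W hW (hgen W) (X.presheaf.map (homOfLE (g.preimage_mono hWU')).op s)
  have hc : Y.presheaf.map (homOfLE hWU').op (N U s) = ((-1) ^ n * P.coeff 0) ^ m :=
    hext W _ _ fun hη => by rw [TopCat.Presheaf.germ_res_apply, hN U s (hWU' hη), ← ffNorm_res g hWU' hη s]; exact he
  rw [← TopCat.Presheaf.germ_res_apply Y.presheaf (homOfLE hWU') (g x) hxW]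
  show Y.presheaf.germ W (g x) hxW (Y.presheaf.map (homOfLE hWU').op (N U s)) ∈ _
  rw [hc, map_pow, map_mul]
  refine Ideal.pow_mem_of_mem _ (Ideal.mul_mem_left _ _ ?_) m hm
  let φ : Γ(X, g ⁻¹ᵁ W) →+* X.presheaf.stalk x := (X.presheaf.germ (g ⁻¹ᵁ W) x hxW).hom
  let t := X.presheaf.map (homOfLE (g.preimage_mono hWU')).op s
  have ht : φ t ∈ IsLocalRing.maximalIdeal (X.presheaf.stalk x) := by
    show X.presheaf.germ _ x hxW (X.presheaf.map _ s) ∈ _
    rw [TopCat.Presheaf.germ_res_apply]
    exact hs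
  have h0 := congrArg φ hP
  rw [hom_eval₂, map_zero, ← X_mul_divX_add P, eval₂_add, eval₂_mul, eval₂_X, eval₂_C] at h0
  intro hu
  have h1 : IsUnit ((φ.comp (g.app W).hom) (P.coeff 0)) := by
    show IsUnit (X.presheaf.germ (g ⁻¹ᵁ W) x hxW (g.app W (P.coeff 0)))
    rw [← Scheme.Hom.germ_stalkMap_apply g W x hxW]
    exact hu.map (g.stalkMap x).hom
  rw [eq_neg_of_add_eq_zero_right h0, IsUnit.neg_iff] at h1
  exact ht (isUnit_of_mul_isUnit_left h1)

end Groth.Agent.NormHomLib
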