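import Groth.Agent.NormHomLib.FinLocFree
import Groth.Agent.NormHomLib.Normal
import Groth.Agent.NormHomLib.Ample
import Groth.Agent.CurveLib.Components

/-! Existence of norms for finite locally free and for finite surjective morphisms onto normal schemes. -/

set_option autoImplicit false
set_option linter.style.haveILetI false

universe u

open CategoryTheory CategoryTheory.Limits AlgebraicGeometry TopologicalSpace

namespace Groth.Agent.NormHomLib

variable {X Y : Scheme.{u}}

/-- A finite locally free surjection onto a quasi-compact scheme has a norm. -/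
theorem exists_hasNorm_of_finLocFree (π : X ⟶ Y) [Surjective π] [CompactSpace Y] (h : Mor2.IsFinLocFree π) :
    ∃ d, Nrm.HasNorm π d := by
  haveI : IsFinite π := h.1
  haveI : Flat π := h.2.1
  haveI : LocallyOfFinitePresentation π := h.2.2
  have hfin : (Set.range π.finrank).Finite := π.isLocallyConstant_finrank.range_finite
  refine ⟨∏ d ∈ hfin.toFinset, d, hasNorm_of_finLocFree π _ ?_ h fun y =>
    Finset.dvd_prod_of_mem (fun d => d) (hfin.mem_toFinset.2 ⟨y, rfl⟩)⟩
  refine Finset.one_le_prod fun d hd => ?_
  obtain ⟨y, rfl⟩ := hfin.mem_toFinset.1 hd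
  exact (Scheme.Hom.one_le_finrank_iff_surjective π).2 ‹_› y

/-- A closed integral subscheme of the source still surjecting onto the target. -/
theorem exists_dominating_component (π : X ⟶ Y) [IsFinite π] [Surjective π] [IsIntegral Y] :
    ∃ (Z : Scheme.{u}) (i : Z ⟶ X), IsIntegral Z ∧ IsClosedImmersion i ∧ Surjective (i ≫ π) := by
  obtain ⟨x, hx⟩ := π.surjective (genericPoint Y)
  let C := Scheme.IdealSheafData.vanishingIdeal (⟨closure {x}, isClosed_closure⟩ : Closeds X)
  refine ⟨C.subscheme, C.subschemeι, CurveLib.isIntegral_vanishingIdeal isClosed_closure isIrreducible_singleton.closure,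
    inferInstance, ⟨fun y => ?_⟩⟩
  have hsub : (Set.univ : Set Y) ⊆ π '' closure {x} := by
    rw [← (genericPoint_spec Y).def]
    exact closure_minimal (Set.singleton_subset_iff.2 ⟨x, subset_closure rfl, hx⟩) (π.isClosedMap _ isClosed_closure)
  obtain ⟨z, hz, rfl⟩ := hsub (Set.mem_univ y)
  obtain ⟨w, rfl⟩ : z ∈ Set.range C.subschemeι := by
    rw [Scheme.IdealSheafData.range_subschemeι, Scheme.IdealSheafData.coe_support_vanishingIdeal]
    exact hz
  exact ⟨w, rfl⟩

end Groth.Agent.NormHomLib
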