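import Groth.Agent.NormAmpleLib.NormalNorm
import Groth.Agent.FinLocFreeLib.Basic
import Groth.Prelude.Def_Fitting
import Mathlib.AlgebraicGeometry.Morphisms.FlatRank

/-! A finite locally free morphism of constant rank carries a norm. -/

set_option autoImplicit false
set_option linter.style.haveILetI false
set_option backward.isDefEq.respectTransparency false

universe u

open CategoryTheory CategoryTheory.Limits AlgebraicGeometry TopologicalSpace Opposite
open Groth.Agent.NormAmpleLib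

namespace Groth.Agent.NormHomLib

variable {X Y : Scheme.{u}} (g : X ⟶ Y)

theorem nice_rank [IsFinite g] [Flat g] {W : Y.Opens} (hW : IsAffineOpen W) {d : ℕ} (hn : Nice g W d) {y : Y}
    (hy : y ∈ W) : g.finrank y = d := by
  letI := alg g W
  obtain ⟨b⟩ := hn
  haveI : Module.Free Γ(Y, W) Γ(X, g ⁻¹ᵁ W) := Module.Free.of_basis b
  haveI : Module.Finite Γ(Y, W) Γ(X, g ⁻¹ᵁ W) := Module.Finite.of_basis b
  haveI : Nonempty W := ⟨⟨y, hy⟩⟩
  have hW' : IsAffineOpen (g ⁻¹ᵁ W) := hW.preimage g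
  have hsq : IsPullback hW'.fromSpec (Spec.map (CommRingCat.ofHom (algebraMap Γ(Y, W) Γ(X, g ⁻¹ᵁ W)))) g hW.fromSpec := by
    refine (IsOpenImmersion.isPullback (Spec.map (CommRingCat.ofHom (algebraMap Γ(Y, W) Γ(X, g ⁻¹ᵁ W)))) hW'.fromSpec
      hW.fromSpec g ?_ ?_).flip
    · show hW'.fromSpec ≫ g = Spec.map (g.app W) ≫ hW.fromSpec
      rw [Scheme.Hom.app_eq_appLE, IsAffineOpen.SpecMap_appLE_fromSpec g hW hW' le_rfl]
    · rw [hW.opensRange_fromSpec, hW'.opensRange_fromSpec]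
  obtain ⟨p, rfl⟩ : y ∈ Set.range hW.fromSpec := hW.range_fromSpec.ge hy
  haveI : Nontrivial Γ(Y, W) := inferInstance
  refine (Scheme.Hom.finrank_of_isPullback _ _ _ _ hsq p).symm.trans ?_
  refine (Scheme.Hom.finrank_SpecMap_algebraMap Γ(Y, W) Γ(X, g ⁻¹ᵁ W) p).trans ?_
  rw [Module.rankAtStalk_eq_finrank_of_free]
  simp [Module.finrank_eq_card_basis b]

/-- A finite locally free morphism of ranks dividing `R` has a norm of degree `R`. -/
theorem hasNorm_of_finLocFree (R : ℕ) (hR : 1 ≤ R) (h : Mor2.IsFinLocFree g) (hdiv : ∀ y, g.finrank y ∣ R) :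
    Nrm.HasNorm g R := by
  classical
  haveI : IsFinite g := h.1
  haveI : Flat g := h.2.1
  have hcov : ∀ (U : Y.Opens), ∀ y ∈ U, ∃ (W : Y.Opens) (d : ℕ), y ∈ W ∧ W ≤ U ∧ IsAffineOpen W ∧ Nice g W d ∧ d ∣ R := by
    intro U y hy
    obtain ⟨D, d', hyD, hD, hn⟩ := exists_nice (FinLocFreeLib.isFinLocFree_push g h) y
    obtain ⟨f, hf, hyf⟩ := hD.exists_basicOpen_le (V := U) ⟨y, hy⟩ hyD
    have hn' := (nice_res hD hn f rfl (Y.basicOpen_le f)).1
    have := nice_rank g (hD.basicOpen f) hn' hyf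
    exact ⟨_, d', hyf, hf, hD.basicOpen f, hn', this ▸ hdiv y⟩
  have hN : ∀ (U : Y.Opens) (a : Γ(X, g ⁻¹ᵁ U)), ∃ c : Γ(Y, U), ∀ (W : Y.Opens) (hWU : W ≤ U),
      IsAffineOpen W → ∀ d, Nice g W d → d ∣ R →
        Y.presheaf.map (homOfLE hWU).op c = nrm g W (X.presheaf.map (homOfLE (g.preimage_mono hWU)).op a) ^ (R / d) := by
    intro U a
    let ι := {W : Y.Opens × ULift.{u} ℕ // W.1 ≤ U ∧ IsAffineOpen W.1 ∧ Nice g W.1 W.2.down ∧ W.2.down ∣ R}
    obtain ⟨c, hc, -⟩ := Y.sheaf.existsUnique_gluing' (fun W : ι => W.1.1) U (fun W => homOfLE W.2.1)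
      (fun y hy => by
        obtain ⟨W, d, h1, h2, h3, h4, h5⟩ := hcov U y hy
        exact Opens.mem_iSup.2 ⟨⟨(W, ⟨d⟩), h2, h3, h4, h5⟩, h1⟩)
      (fun W => nrm g W.1.1 (X.presheaf.map (homOfLE (g.preimage_mono W.2.1)).op a) ^ (R / W.1.2.down)) (fun W W' => by
        refine TopCat.Presheaf.section_ext Y.sheaf _ _ _ fun z hz => ?_
        obtain ⟨hdd, Z, hZ, hZ', hzZ, e⟩ := exists_nrm_overlap W.2.2.1 W'.2.2.1 W.2.2.2.1 W'.2.2.2.1 hz.1 hz.2 W.2.1 W'.2.1 a
        have := congrArg (Y.presheaf.germ Z z hzZ) e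
        erw [TopCat.Presheaf.germ_res_apply, TopCat.Presheaf.germ_res_apply] at this
        erw [TopCat.Presheaf.germ_res_apply, TopCat.Presheaf.germ_res_apply, map_pow, map_pow]
        exact congrArg₂ (fun a n => a ^ (R / n)) this hdd)
    exact ⟨c, fun W hWU hW d hn hd => hc ⟨(W, ⟨d⟩), hWU, hW, hn, hd⟩⟩
  choose N hN using hN
  have hext : ∀ (U : Y.Opens) (c c' : Γ(Y, U)), (∀ (W : Y.Opens) (hWU : W ≤ U), IsAffineOpen W → ∀ d, Nice g W d → d ∣ R →
      Y.presheaf.map (homOfLE hWU).op c = Y.presheaf.map (homOfLE hWU).op c') → c = c' := by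
    intro U c c' hcc
    refine Y.sheaf.eq_of_locally_eq'
      (fun W : {W : Y.Opens × ULift.{u} ℕ // W.1 ≤ U ∧ IsAffineOpen W.1 ∧ Nice g W.1 W.2.down ∧ W.2.down ∣ R} => W.1.1) U
      (fun W => homOfLE W.2.1) (fun y hy => ?_) c c' fun W => hcc W.1.1 W.2.1 W.2.2.1 _ W.2.2.2.1 W.2.2.2.2
    obtain ⟨W, d, h1, h2, h3, h4, h5⟩ := hcov U y hy
    exact Opens.mem_iSup.2 ⟨⟨(W, ⟨d⟩), h2, h3, h4, h5⟩, h1⟩
  refine ⟨{
    one_le := hR
    norm := fun U =>
      { toFun := N U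
        map_one' := hext U _ _ fun W hWU hW d hn hd => by rw [hN U 1 W hWU hW d hn hd, map_one, map_one, map_one, one_pow]
        map_mul' := fun a b => hext U _ _ fun W hWU hW d hn hd => by
          rw [map_mul, hN U _ W hWU hW d hn hd, hN U a W hWU hW d hn hd, hN U b W hWU hW d hn hd, map_mul, map_mul, mul_pow] }
    norm_res := fun {U V} i s => hext V _ _ fun W hWV hW d hn hd => by
      show Y.presheaf.map (homOfLE hWV).op (Y.presheaf.map i.op (N U s)) = Y.presheaf.map (homOfLE hWV).op (N V _)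
      rw [hN V _ W hWV hW d hn hd, ← ConcreteCategory.comp_apply, ← Functor.map_comp,
        show i.op ≫ (homOfLE hWV).op = (homOfLE (hWV.trans i.le)).op from rfl, hN U s W _ hW d hn hd,
        ← ConcreteCategory.comp_apply, ← Functor.map_comp]
      rfl
    norm_app := fun U u => hext U _ _ fun W hWU hW d hn hd => by
      show Y.presheaf.map (homOfLE hWU).op (N U (g.app U u)) = _
      rw [hN U _ W hWU hW d hn hd, map_pow,
        show X.presheaf.map (homOfLE (g.preimage_mono hWU)).op (g.app U u) = g.app W (Y.presheaf.map (homOfLE hWU).op u) from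
          (ConcreteCategory.congr_hom (g.naturality (homOfLE hWU).op) u).symm,
        nrm_app hn, ← pow_mul, Nat.mul_div_cancel' hd]
    norm_mem := fun U s x hx hs => ?_ }⟩
  intro hu
  obtain ⟨W, d, hxW, hWU, hW, hn, hd⟩ := hcov U (g x) hx
  have hq : 0 < R / d :=
    Nat.div_pos (Nat.le_of_dvd hR hd) (Nat.pos_of_ne_zero fun h0 => absurd (zero_dvd_iff.1 (h0 ▸ hd)) (by omega))
  apply hs
  have h1 : g x ∈ Y.basicOpen (nrm g W (X.presheaf.map (homOfLE (g.preimage_mono hWU)).op s)) := by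
    rw [← Y.basicOpen_pow _ hq, ← hN U s W hWU hW d hn hd, Scheme.basicOpen_res]
    exact ⟨hxW, (Y.mem_basicOpen _ _ hx).2 hu⟩
  have h2 := mem_basicOpen_of_nrm hn _ h1
  rw [Scheme.basicOpen_res] at h2
  exact (X.mem_basicOpen _ _ hx).1 h2.2

end Groth.Agent.NormHomLib
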